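import Cfsg.Agent.H15.NS.ONB.D0

/-! Generated by tools/h15/ns/gen.py (kit tools/h0/tr). -/

set_option maxRecDepth 100000
set_option maxHeartbeats 0

namespace H15.NS.ON
open H16 H0.TR
open scoped commutatorElement

theorem res_3_0 : allZ (resEnt (twoP 122760 (wdsP P mW) (wdsP P mV)) Tm E EI (nat_lit 245520) (nat_lit 13920) (nat_lit 3)) (nat_lit 0) (nat_lit 2944) = true := by decide +kernel
theorem res_3_2 : allZ (resEnt (twoP 122760 (wdsP P mW) (wdsP P mV)) Tm E EI (nat_lit 245520) (nat_lit 13920) (nat_lit 3)) (nat_lit 5888) (nat_lit 2944) = true := by decide +kernel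
theorem res_4_0 : allZ (resEnt (twoP 122760 (wdsP P mW) (wdsP P mV)) Tm E EI (nat_lit 245520) (nat_lit 13920) (nat_lit 4)) (nat_lit 0) (nat_lit 2944) = true := by decide +kernel
theorem res_4_2 : allZ (resEnt (twoP 122760 (wdsP P mW) (wdsP P mV)) Tm E EI (nat_lit 245520) (nat_lit 13920) (nat_lit 4)) (nat_lit 5888) (nat_lit 2944) = true := by decide +kernel
theorem res_5_0 : allZ (resEnt (twoP 122760 (wdsP P mW) (wdsP P mV)) Tm E EI (nat_lit 245520) (nat_lit 13920) (nat_lit 5)) (nat_lit 0) (nat_lit 2624) = true := by decide +kernel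
theorem res_5_2 : allZ (resEnt (twoP 122760 (wdsP P mW) (wdsP P mV)) Tm E EI (nat_lit 245520) (nat_lit 13920) (nat_lit 5)) (nat_lit 5248) (nat_lit 2624) = true := by decide +kernel
theorem res_5_4 : allZ (resEnt (twoP 122760 (wdsP P mW) (wdsP P mV)) Tm E EI (nat_lit 245520) (nat_lit 13920) (nat_lit 5)) (nat_lit 10496) (nat_lit 2624) = true := by decide +kernel
theorem res_0_2 : allZ (resEnt (twoP 122760 (wdsP P mW) (wdsP P mV)) Tm E EI (nat_lit 245520) (nat_lit 13920) (nat_lit 0)) (nat_lit 6144) (nat_lit 3072) = true := by decide +kernel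
theorem res_1_0 : allZ (resEnt (twoP 122760 (wdsP P mW) (wdsP P mV)) Tm E EI (nat_lit 245520) (nat_lit 13920) (nat_lit 1)) (nat_lit 0) (nat_lit 2752) = true := by decide +kernel
theorem res_1_2 : allZ (resEnt (twoP 122760 (wdsP P mW) (wdsP P mV)) Tm E EI (nat_lit 245520) (nat_lit 13920) (nat_lit 1)) (nat_lit 5504) (nat_lit 2752) = true := by decide +kernel
theorem res_1_4 : allZ (resEnt (twoP 122760 (wdsP P mW) (wdsP P mV)) Tm E EI (nat_lit 245520) (nat_lit 13920) (nat_lit 1)) (nat_lit 11008) (nat_lit 2752) = true := by decide +kernel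
theorem res_2_1 : allZ (resEnt (twoP 122760 (wdsP P mW) (wdsP P mV)) Tm E EI (nat_lit 245520) (nat_lit 13920) (nat_lit 2)) (nat_lit 2752) (nat_lit 2752) = true := by decide +kernel
theorem res_2_3 : allZ (resEnt (twoP 122760 (wdsP P mW) (wdsP P mV)) Tm E EI (nat_lit 245520) (nat_lit 13920) (nat_lit 2)) (nat_lit 8256) (nat_lit 2752) = true := by decide +kernel
theorem a2 : H16.allL (fixL (wdsP H16.TON.P tW) 8 H16.TON.B) H16.PON.Rl = true := by decide +kernel
theorem res_3_4 : allZ (resEnt (twoP 122760 (wdsP P mW) (wdsP P mV)) Tm E EI (nat_lit 245520) (nat_lit 13920) (nat_lit 3)) (nat_lit 11776) (nat_lit 2144) = true := by decide +kernel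
theorem res_0_4 : allZ (resEnt (twoP 122760 (wdsP P mW) (wdsP P mV)) Tm E EI (nat_lit 245520) (nat_lit 13920) (nat_lit 0)) (nat_lit 12288) (nat_lit 1632) = true := by decide +kernel
theorem res_5_5 : allZ (resEnt (twoP 122760 (wdsP P mW) (wdsP P mV)) Tm E EI (nat_lit 245520) (nat_lit 13920) (nat_lit 5)) (nat_lit 13120) (nat_lit 800) = true := by decide +kernel
theorem lol0_e_0 : allZ (dent lol0 lo_P (nat_lit 13920)) (nat_lit 0) (nat_lit 479) = true := by decide +kernel
theorem res_2_5 : allZ (resEnt (twoP 122760 (wdsP P mW) (wdsP P mV)) Tm E EI (nat_lit 245520) (nat_lit 13920) (nat_lit 2)) (nat_lit 13760) (nat_lit 160) = true := by decide +kernel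
theorem mV_lt : H16.allL (ltAll 11) mV = true := by decide +kernel
theorem lo_lt : H16.allL (ltAll 6) lo_W = true := by decide +kernel
theorem lol1_h : 0 < lol1.n ∧ 0 < lol1.K ∧ lol1.Pt 0 < 13920 ∧ lol1.Q (lol1.Pt 0) = 0 := by decide +kernel
theorem lo_c : chainCard [lol0, lol1, lol2] = 322560 ∧ topK [lol0, lol1, lol2] = 6 := by decide +kernel
theorem lo_f1 : (Nat.ble lol1.K 6 && Nat.ble (topK [lol2]) lol1.K && fixLetters lo_P (topK [lol2]) (lol1.Pt 0)) = true := by decide +kernel
theorem lol2_e_0 : allZ (dent lol2 lo_P (nat_lit 13920)) (nat_lit 0) (nat_lit 3) = true := by decide +kernel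

end H15.NS.ON
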