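import Cfsg.Agent.H15.NS.ONB.D0

/-! Generated by tools/h15/ns/gen.py (kit tools/h0/tr). -/

set_option maxRecDepth 100000
set_option maxHeartbeats 0

namespace H15.NS.ON
open H16 H0.TR
open scoped commutatorElement

theorem res_3_1 : allZ (resEnt (twoP 122760 (wdsP P mW) (wdsP P mV)) Tm E EI (nat_lit 245520) (nat_lit 13920) (nat_lit 3)) (nat_lit 2944) (nat_lit 2944) = true := by decide +kernel
theorem res_3_3 : allZ (resEnt (twoP 122760 (wdsP P mW) (wdsP P mV)) Tm E EI (nat_lit 245520) (nat_lit 13920) (nat_lit 3)) (nat_lit 8832) (nat_lit 2944) = true := by decide +kernel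
theorem res_4_1 : allZ (resEnt (twoP 122760 (wdsP P mW) (wdsP P mV)) Tm E EI (nat_lit 245520) (nat_lit 13920) (nat_lit 4)) (nat_lit 2944) (nat_lit 2944) = true := by decide +kernel
theorem res_4_3 : allZ (resEnt (twoP 122760 (wdsP P mW) (wdsP P mV)) Tm E EI (nat_lit 245520) (nat_lit 13920) (nat_lit 4)) (nat_lit 8832) (nat_lit 2944) = true := by decide +kernel
theorem res_5_1 : allZ (resEnt (twoP 122760 (wdsP P mW) (wdsP P mV)) Tm E EI (nat_lit 245520) (nat_lit 13920) (nat_lit 5)) (nat_lit 2624) (nat_lit 2624) = true := by decide +kernel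
theorem res_5_3 : allZ (resEnt (twoP 122760 (wdsP P mW) (wdsP P mV)) Tm E EI (nat_lit 245520) (nat_lit 13920) (nat_lit 5)) (nat_lit 7872) (nat_lit 2624) = true := by decide +kernel
theorem res_0_0 : allZ (resEnt (twoP 122760 (wdsP P mW) (wdsP P mV)) Tm E EI (nat_lit 245520) (nat_lit 13920) (nat_lit 0)) (nat_lit 0) (nat_lit 3072) = true := by decide +kernel
theorem res_0_1 : allZ (resEnt (twoP 122760 (wdsP P mW) (wdsP P mV)) Tm E EI (nat_lit 245520) (nat_lit 13920) (nat_lit 0)) (nat_lit 3072) (nat_lit 3072) = true := by decide +kernel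
theorem res_0_3 : allZ (resEnt (twoP 122760 (wdsP P mW) (wdsP P mV)) Tm E EI (nat_lit 245520) (nat_lit 13920) (nat_lit 0)) (nat_lit 9216) (nat_lit 3072) = true := by decide +kernel
theorem res_1_1 : allZ (resEnt (twoP 122760 (wdsP P mW) (wdsP P mV)) Tm E EI (nat_lit 245520) (nat_lit 13920) (nat_lit 1)) (nat_lit 2752) (nat_lit 2752) = true := by decide +kernel
theorem res_1_3 : allZ (resEnt (twoP 122760 (wdsP P mW) (wdsP P mV)) Tm E EI (nat_lit 245520) (nat_lit 13920) (nat_lit 1)) (nat_lit 8256) (nat_lit 2752) = true := by decide +kernel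
theorem res_2_0 : allZ (resEnt (twoP 122760 (wdsP P mW) (wdsP P mV)) Tm E EI (nat_lit 245520) (nat_lit 13920) (nat_lit 2)) (nat_lit 0) (nat_lit 2752) = true := by decide +kernel
theorem res_2_2 : allZ (resEnt (twoP 122760 (wdsP P mW) (wdsP P mV)) Tm E EI (nat_lit 245520) (nat_lit 13920) (nat_lit 2)) (nat_lit 5504) (nat_lit 2752) = true := by decide +kernel
theorem res_2_4 : allZ (resEnt (twoP 122760 (wdsP P mW) (wdsP P mV)) Tm E EI (nat_lit 245520) (nat_lit 13920) (nat_lit 2)) (nat_lit 11008) (nat_lit 2752) = true := by decide +kernel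
theorem res_4_4 : allZ (resEnt (twoP 122760 (wdsP P mW) (wdsP P mV)) Tm E EI (nat_lit 245520) (nat_lit 13920) (nat_lit 4)) (nat_lit 11776) (nat_lit 2144) = true := by decide +kernel
theorem a1 : autChk H16.TON.P 10 8 H16.TON.B H16.TON.Ws tW tW = true := by decide +kernel
theorem a4_0 : allZ (lnkEnt (wdsP (wdsP H16.TON.P tW) tW) H16.TON.P H16.TON.B) (nat_lit 0) (nat_lit 10) = true := by decide +kernel
theorem mVk_0 : allZ (lnkEnt (wdsP P mW) (wdsP P mV) H16.TON.B) (nat_lit 0) (nat_lit 6) = true := by decide +kernel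
theorem res_1_5 : allZ (resEnt (twoP 122760 (wdsP P mW) (wdsP P mV)) Tm E EI (nat_lit 245520) (nat_lit 13920) (nat_lit 1)) (nat_lit 13760) (nat_lit 160) = true := by decide +kernel
theorem lol1_e_0 : allZ (dent lol1 lo_P (nat_lit 13920)) (nat_lit 0) (nat_lit 167) = true := by decide +kernel
theorem a3 : ltAll 10 (nth [] tW 0) = 0 ∧ 0 < 122760 ∧ apW H16.TON.P (nth [] tW 0) 0 ≠ 0 := by decide +kernel
theorem tW_lt : H16.allL (ltAll 10) tW = true := by decide +kernel
theorem a5 : 0 < 10 ∧ lnkEnt (wdsP H16.TON.P tW) H16.TON.P H16.TON.B 0 ≠ 0 := by decide +kernel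
theorem a6 : H16.TON.B ≠ [] ∧ ltAll (122760 + 122760) H16.TON.B = 0 := by decide +kernel
theorem m_lt : H16.allL (ltAll 11) mW = true := by decide +kernel
theorem resb : neL H16.TON.B (B1.map E) = 0 ∧ ltAll 13920 B1 = 0 := by decide +kernel
theorem lol0_h : 0 < lol0.n ∧ 0 < lol0.K ∧ lol0.Pt 0 < 13920 ∧ lol0.Q (lol0.Pt 0) = 0 := by decide +kernel
theorem lol2_h : 0 < lol2.n ∧ 0 < lol2.K ∧ lol2.Pt 0 < 13920 ∧ lol2.Q (lol2.Pt 0) = 0 := by decide +kernel
theorem lo_f2 : (Nat.ble lol2.K 6 && Nat.ble (topK []) lol2.K && fixLetters lo_P (topK []) (lol2.Pt 0)) = true := by decide +kernel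
theorem lo_f0 : (Nat.ble lol0.K 6 && Nat.ble (topK [lol1, lol2]) lol0.K && fixLetters lo_P (topK [lol1, lol2]) (lol0.Pt 0)) = true := by decide +kernel

end H15.NS.ON
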